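import Groth.Agent.ConnEt.Rigid
import Groth.Agent.Hensel.Idempotent
import Groth.Agent.HopfGalois.Quotient
import Groth.Agent.Comodule.Integral
import Mathlib

/-! The connected component of a finite flat Hopf algebra over a local ring, cut out by an idempotent. -/

set_option autoImplicit false
universe u v w

open TensorProduct WithConv

noncomputable section

namespace Groth.Agent.ConnEt

theorem henselianLocalRing_of_finite (R : Type u) [CommRing R] [HenselianLocalRing R]
    (S : Type v) [CommRing S] [IsLocalRing S] [Algebra R S] [Module.Finite R S] :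
    HenselianLocalRing S := by
  rw [← Hensel.henselianRing_maximalIdeal_iff]
  haveI := Hensel.of_isIntegral (I := IsLocalRing.maximalIdeal R) S
  refine Hensel.of_le_radical (I := (IsLocalRing.maximalIdeal R).map (algebraMap R S)) ?_
  rw [Ideal.radical_eq_sInf]
  refine le_sInf fun P ⟨hP, hPp⟩ => ?_
  have : (P.comap (algebraMap R S)).IsMaximal := by
    have h1 : IsLocalRing.maximalIdeal R ≤ P.comap (algebraMap R S) := Ideal.map_le_iff_le_comap.1 hP
    rw [← (IsLocalRing.maximalIdeal.isMaximal R).eq_of_le (Ideal.comap_ne_top _ hPp.ne_top) h1]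
    exact IsLocalRing.maximalIdeal.isMaximal R
  exact (IsLocalRing.eq_maximalIdeal (Ideal.isMaximal_of_isIntegral_of_isMaximal_comap P this)).ge

variable (R : Type u) [CommRing R] {A : Type v} [CommRing A] [HopfAlgebra R A] (e : A)

/-- The ideal of the component. -/
abbrev cI : Ideal A := Ideal.span ({1 - e} : Set A)

variable {R} {e}

/-- The counit on the component. -/
def eps0 (hε : Bialgebra.counitAlgHom R A e = 1) : (A ⧸ cI e) →ₐ[R] R :=
  Ideal.Quotient.liftₐ (cI e) (Bialgebra.counitAlgHom R A) fun a ha => by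
    obtain ⟨c, rfl⟩ := Ideal.mem_span_singleton'.mp ha
    rw [map_mul, map_sub, map_one, hε, sub_self, mul_zero]

@[simp] theorem eps0_mk (hε : Bialgebra.counitAlgHom R A e = 1) (a : A) :
    eps0 hε (Ideal.Quotient.mk (cI e) a) = Coalgebra.counit (R := R) a := rfl

theorem mk_e : Ideal.Quotient.mk (cI e) e = 1 := by
  rw [← map_one (Ideal.Quotient.mk (cI e))]
  refine (Ideal.Quotient.eq.mpr ?_).symm
  exact Ideal.subset_span rfl

variable (R) (e)

/-- The translation coaction by the component. -/
def coact : A →ₐ[R] A ⊗[R] (A ⧸ cI e) :=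
  (Algebra.TensorProduct.map (AlgHom.id R A) (Ideal.Quotient.mkₐ R (cI e))).comp (Bialgebra.comulAlgHom R A)

/-- The functions invariant under translation by the component. -/
abbrev cB : Subalgebra R A :=
  AlgHom.equalizer
    ((Algebra.TensorProduct.map (AlgHom.id R A) (Ideal.Quotient.mkₐ R (Ideal.span ({1 - e} : Set A)))).comp
      (Bialgebra.comulAlgHom R A))
    (Algebra.TensorProduct.includeLeft : A →ₐ[R] A ⊗[R] (A ⧸ Ideal.span ({1 - e} : Set A)))

variable {R} {e}

theorem mem_cB {a : A} : a ∈ cB R e ↔ coact R e a = a ⊗ₜ[R] 1 := Iff.rfl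

variable (hε : Bialgebra.counitAlgHom R A e = 1)

theorem augR_coact (a : A) : augR (eps0 hε) (coact R e a) = a := by
  have key : ∀ z : A ⊗[R] A, augR (eps0 hε) (Algebra.TensorProduct.map (AlgHom.id R A)
      (Ideal.Quotient.mkₐ R (cI e)) z) = TensorProduct.rid R A ((Coalgebra.counit (R := R) (A := A)).lTensor A z) := by
    intro z
    induction z with
    | zero => simp
    | add p q hp hq => simp only [map_add, hp, hq]
    | tmul p q => simp
  refine (key _).trans ?_
  change TensorProduct.rid R A ((Coalgebra.counit (R := R) (A := A)).lTensor A (Coalgebra.comul (R := R) a)) = a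
  rw [Coalgebra.lTensor_counit_comul, TensorProduct.rid_tmul, one_smul]

theorem coact_sub_mem (a : A) :
    coact R e a - a ⊗ₜ[R] (1 : A ⧸ cI e) ∈ (RingHom.ker (eps0 hε)).map
      (Algebra.TensorProduct.includeRight : (A ⧸ cI e) →ₐ[R] A ⊗[R] (A ⧸ cI e)) := by
  have h := sub_mem_map_ker (eps0 hε) (coact R e a)
  rwa [augR_coact] at h

/-- The coaction is congruent to the inclusion modulo the augmentation ideal. -/
theorem coact_congr {T : Type w} [CommRing T] [Algebra R T] (p : A ⊗[R] (A ⧸ cI e) →ₐ[R] T) (a : A) :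
    p (coact R e a) - p (a ⊗ₜ[R] 1) ∈
      (RingHom.ker (eps0 hε)).map (p.comp Algebra.TensorProduct.includeRight) := by
  have h := Ideal.mem_map_of_mem p (sub_mem_map_ker (eps0 hε) (coact R e a))
  rw [augR_coact, map_sub, Ideal.map_mapₐ] at h
  exact h

section
variable (he : IsIdempotentElem e) (hε : Bialgebra.counitAlgHom R A e = 1)
  [IsLocalRing (A ⧸ cI e)] [Nontrivial R]

include he hε in
theorem isHopfIdeal [Module.Finite R A] : (cI e).IsHopfIdeal R := by
  haveI : Module.Finite R (A ⧸ cI e) := Module.Finite.quotient R _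
  haveI : ((cI e).restrictScalars R).IsCoideal := by
    refine Submodule.IsCoideal.mk ?_ ?_
    · intro x hx
      obtain ⟨a, rfl⟩ := Ideal.mem_span_singleton'.mp hx
      change Bialgebra.counitAlgHom R A (a * (1 - e)) = 0
      rw [map_mul, map_sub, map_one, hε, sub_self, mul_zero]
    · intro x hx
      obtain ⟨a, rfl⟩ := Ideal.mem_span_singleton'.mp hx
      let Q := Ideal.Quotient.mkₐ R (cI e)
      let p : A ⊗[R] (A ⧸ cI e) →ₐ[R] (A ⧸ cI e) ⊗[R] (A ⧸ cI e) :=
        Algebra.TensorProduct.map Q (AlgHom.id R _)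
      have hp : ∀ z, p (Algebra.TensorProduct.map (AlgHom.id R A) Q z) = Algebra.TensorProduct.map Q Q z := by
        intro z
        induction z with
        | zero => simp
        | add r q hr hq => simp only [map_add, hr, hq]
        | tmul r q => simp [p]
      have h1 : p (coact R e e) = 1 := by
        refine idem_eq (map_ker_le_jac (eps0 hε) (p.comp Algebra.TensorProduct.includeRight))
          ((he.map _).map p) IsIdempotentElem.one ?_
        have := coact_congr hε p e
        simpa [p, Q, mk_e, Algebra.TensorProduct.one_def] using this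
      have hmk : (Submodule.restrictScalars R (cI e)).mkQ = Q.toLinearMap := rfl
      rw [hmk]
      change Algebra.TensorProduct.map Q Q (Bialgebra.comulAlgHom R A (a * (1 - e))) = 0
      have h2 : Algebra.TensorProduct.map Q Q (Bialgebra.comulAlgHom R A e) = p (coact R e e) := (hp _).symm
      rw [map_mul, map_mul, map_sub, map_sub, map_one, map_one, h2, h1, sub_self, mul_zero]
  refine Ideal.IsHopfIdeal.mk ?_
  intro x hx
  obtain ⟨a, rfl⟩ := Ideal.mem_span_singleton'.mp hx
  change HopfAlgebra.antipodeAlgHom R A (a * (1 - e)) ∈ cI e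
  rw [map_mul]
  refine Ideal.mul_mem_left _ _ ?_
  rw [← Ideal.Quotient.eq_zero_iff_mem, map_sub, map_one, map_sub, map_one, sub_eq_zero]
  refine (eq_one_of_idem ((he.map _).map (Ideal.Quotient.mk (cI e))) (eps0 hε).toRingHom ?_).symm
  change eps0 hε (Ideal.Quotient.mk _ _) = 1
  rw [eps0_mk]
  change Coalgebra.counit (R := R) (HopfAlgebra.antipode R e) = 1
  rw [HopfAlgebra.counit_antipode]
  exact hε

include hε in
theorem residue_comp_surjective :
    Function.Surjective (⇑(IsLocalRing.residue (A ⧸ cI e)) ∘ ⇑(algebraMap R (A ⧸ cI e))) := by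
  intro x
  obtain ⟨a, rfl⟩ := IsLocalRing.residue_surjective (R := A ⧸ cI e) x
  refine ⟨eps0 hε a, (Ideal.Quotient.eq.mpr ?_)⟩
  rw [IsLocalRing.mem_maximalIdeal]
  intro hu
  have := hu.map (eps0 hε)
  rw [map_sub, AlgHom.commutes, Algebra.algebraMap_self, RingHom.id_apply, sub_self] at this
  exact not_isUnit_zero this

omit hε in
include he in
theorem flat_quot [Module.Flat R A] : Module.Flat R (A ⧸ cI e) := by
  let s : (A ⧸ cI e) →ₗ[R] A := ((cI e).restrictScalars R).liftQ (LinearMap.mulLeft R e) fun x hx => by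
    obtain ⟨a, rfl⟩ := Ideal.mem_span_singleton'.mp hx
    change e * (a * (1 - e)) = 0
    linear_combination (-a) * he.eq
  refine Module.Flat.of_retract s (Ideal.Quotient.mkₐ R (cI e)).toLinearMap ?_
  refine LinearMap.ext fun x => ?_
  obtain ⟨a, rfl⟩ := Ideal.Quotient.mk_surjective x
  change Ideal.Quotient.mk (cI e) (e * a) = Ideal.Quotient.mk (cI e) a
  rw [map_mul, mk_e, one_mul]

include hε in
/-- Idempotents of `A` are translation invariant. -/
theorem idem_mem [Module.Finite R A] {f : A} (hf : IsIdempotentElem f) : f ∈ cB R e := by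
  haveI : Module.Finite R (A ⧸ cI e) := Module.Finite.quotient R _
  have hJ := map_ker_le_jac (T := A ⊗[R] (A ⧸ cI e)) (eps0 hε) Algebra.TensorProduct.includeRight
  have hf' : IsIdempotentElem (f ⊗ₜ[R] (1 : A ⧸ cI e)) := by
    simp [IsIdempotentElem, Algebra.TensorProduct.tmul_mul_tmul, hf.eq]
  exact mem_cB.mpr (idem_eq hJ (hf.map (coact R e)) hf' (coact_sub_mem hε f))

include hε in
/-- The image of a map out of an unramified algebra is translation invariant. -/
theorem range_le [Module.Finite R A] {C : Type w} [CommRing C] [Algebra R C] (t : SepElem (R := R) C)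
    (φ : C →ₐ[R] A) (c : C) : φ c ∈ cB R e := by
  haveI : Module.Finite R (A ⧸ cI e) := Module.Finite.quotient R _
  have hJ := map_ker_le_jac (T := A ⊗[R] (A ⧸ cI e)) (eps0 hε) Algebra.TensorProduct.includeRight
  exact mem_cB.mpr (AlgHom.congr_fun (t.algHom_eq hJ ((coact R e).comp φ)
    ((Algebra.TensorProduct.includeLeft : A →ₐ[R] A ⊗[R] (A ⧸ cI e)).comp φ)
    fun c' => coact_sub_mem hε (φ c')) c)

end

end Groth.Agent.ConnEt
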