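import Groth.Agent.ConnEt.EtalePart
import Mathlib

/-! Connected and étale finite flat groups in an exact sequence. -/

set_option autoImplicit false
universe u v w

open TensorProduct WithConv

noncomputable section

namespace Groth.Agent.ConnEt

variable {R : Type u} [CommRing R]

/-- For an augmented separable algebra the augmentation ideal is cut out by an idempotent. -/
theorem exists_idem_of_sep {X : Type v} [CommRing X] [Algebra R X] (εX : X →ₐ[R] R) (t : SepElem (R := R) X) :
    ∃ f : X, IsIdempotentElem f ∧ εX f = 1 ∧ ∀ x, f * x = εX x • f := by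
  let l : X ⊗[R] X →ₐ[R] X :=
    Algebra.TensorProduct.lift ((Algebra.ofId R X).comp εX) (AlgHom.id R X) fun _ _ => Commute.all _ _
  have hrel : ∀ x, l t.elem * x = εX x • l t.elem := fun x => by
    have h := congrArg l (t.rel x)
    rw [map_mul, map_sub, map_zero, sub_mul, sub_eq_zero] at h
    simp only [l, Algebra.TensorProduct.lift_tmul, map_one, one_mul, mul_one, AlgHom.comp_apply,
      Algebra.ofId_apply, AlgHom.id_apply] at h
    rw [mul_comm, h, Algebra.smul_def]
  have hone : εX (l t.elem) = 1 := by
    have hc : εX.comp l = εX.comp (Algebra.TensorProduct.lmul' R) :=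
      Algebra.TensorProduct.ext (AlgHom.ext fun x => by simp [l]) (AlgHom.ext fun x => by simp [l])
    exact (AlgHom.congr_fun hc t.elem).trans (by simp [t.mult])
  exact ⟨l t.elem, by rw [IsIdempotentElem, hrel, hone, one_smul], hone, hrel⟩

section
variable {A : Type v} [CommRing A] [HopfAlgebra R A]

/-- A Hopf algebra whose augmentation ideal is cut out by an idempotent is separable. -/
def sepElemOfIdem (f : A) (hone : Bialgebra.counitAlgHom R A f = 1)
    (hf : ∀ x, f * x = Bialgebra.counitAlgHom R A x • f) : SepElem (R := R) A where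
  elem := sDelta R A f
  rel b := by
    refine sDelta_rel ?_
    have key : ∀ z : A ⊗[R] A, ((1 : A) ⊗ₜ[R] f) * z =
        TensorProduct.rid R A ((Coalgebra.counit (R := R) (A := A)).lTensor A z) ⊗ₜ[R] f := by
      intro z
      induction z with
      | zero => simp
      | add p q hp hq => simp only [mul_add, map_add, TensorProduct.add_tmul, hp, hq]
      | tmul p q =>
        rw [Algebra.TensorProduct.tmul_mul_tmul, one_mul, hf, LinearMap.lTensor_tmul, TensorProduct.rid_tmul,
          TensorProduct.tmul_smul, TensorProduct.smul_tmul']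
        rfl
    rw [mul_sub, key, key, Coalgebra.lTensor_counit_comul]
    simp [Bialgebra.counit_one]
  mult := by
    rw [lmul'_sDelta]
    change algebraMap R A (Bialgebra.counitAlgHom R A f) = 1
    rw [hone, map_one]

end

section
variable {A A'' : Type u} [CommRing A] [HopfAlgebra R A] [CommRing A''] [HopfAlgebra R A'']
  [Algebra A'' A] [IsScalarTower R A'' A]

variable (R A A'') in
/-- The ideal of the kernel. -/
abbrev kerI : Ideal A := (RingHom.ker (Bialgebra.counitAlgHom R A'')).map (algebraMap A'' A)

variable (hε : (Bialgebra.counitAlgHom R A).comp (IsScalarTower.toAlgHom R A'' A) = Bialgebra.counitAlgHom R A'')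

include hε in
theorem counit_algebraMap (x : A'') :
    Bialgebra.counitAlgHom R A (algebraMap A'' A x) = Bialgebra.counitAlgHom R A'' x :=
  AlgHom.congr_fun hε x

include hε in
theorem kerI_le : kerI R A A'' ≤ RingHom.ker (Bialgebra.counitAlgHom R A) :=
  Ideal.map_le_iff_le_comap.mpr fun x hx => by
    rw [Ideal.mem_comap, RingHom.mem_ker, counit_algebraMap hε]
    exact hx

/-- The counit on the kernel. -/
def epsKer : (A ⧸ kerI R A A'') →ₐ[R] R :=
  Ideal.Quotient.liftₐ (kerI R A A'') (Bialgebra.counitAlgHom R A) fun a ha => kerI_le hε ha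

@[simp] theorem epsKer_mk (a : A) :
    epsKer hε (Ideal.Quotient.mk (kerI R A A'') a) = Bialgebra.counitAlgHom R A a := rfl

include hε in
/-- An extension of connected groups is connected. -/
theorem isLocalRing_of_ext [Nontrivial R] [Module.Finite R A] [IsLocalRing A'']
    [IsLocalRing (A ⧸ kerI R A A'')] : IsLocalRing A := by
  haveI : Nontrivial A := (Bialgebra.counitAlgHom R A).toRingHom.domain_nontrivial
  haveI : Module.Finite A'' A := Module.Finite.of_restrictScalars_finite R A'' A
  have hle : ∀ P : Ideal A, P.IsMaximal → kerI R A A'' ≤ P := fun P hP => by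
    have := Ideal.isMaximal_comap_of_isIntegral_of_isMaximal (R := A'') P
    refine Ideal.map_le_iff_le_comap.mpr ?_
    rw [IsLocalRing.eq_maximalIdeal this]
    exact IsLocalRing.le_maximalIdeal (RingHom.ker_ne_top _)
  refine IsLocalRing.of_unique_max_ideal
    ⟨(IsLocalRing.maximalIdeal (A ⧸ kerI R A A'')).comap (Ideal.Quotient.mk _),
      Ideal.comap_isMaximal_of_surjective _ Ideal.Quotient.mk_surjective, fun P hP => ?_⟩
  haveI : (P.map (Ideal.Quotient.mk (kerI R A A''))).IsMaximal := by
    refine (Ideal.map_eq_top_or_isMaximal_of_surjective _ Ideal.Quotient.mk_surjective hP).resolve_left fun h => ?_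
    have := congrArg (Ideal.comap (Ideal.Quotient.mk (kerI R A A''))) h
    rw [Ideal.comap_map_of_surjective _ Ideal.Quotient.mk_surjective, Ideal.comap_top,
      ← RingHom.ker_eq_comap_bot, Ideal.mk_ker, sup_eq_left.mpr (hle P hP)] at this
    exact hP.ne_top this
  rw [← IsLocalRing.eq_maximalIdeal this, Ideal.comap_map_of_surjective _ Ideal.Quotient.mk_surjective,
    ← RingHom.ker_eq_comap_bot, Ideal.mk_ker, sup_eq_left.mpr (hle P hP)]

include hε in
/-- An extension of étale groups is étale. -/
theorem nonempty_sepElem_ext (t'' : SepElem (R := R) A'') (t' : SepElem (R := R) (A ⧸ kerI R A A'')) :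
    Nonempty (SepElem (R := R) A) := by
  obtain ⟨f₂, -, h₂one, h₂⟩ := exists_idem_of_sep (Bialgebra.counitAlgHom R A'') t''
  obtain ⟨f₁, -, h₁one, h₁⟩ := exists_idem_of_sep (epsKer hε) t'
  obtain ⟨g, rfl⟩ := Ideal.Quotient.mk_surjective f₁
  let f := algebraMap A'' A f₂ * g
  have hJ : ∀ y ∈ kerI R A A'', algebraMap A'' A f₂ * y = 0 := by
    intro y hy
    refine Submodule.span_induction ?_ (by simp) (fun _ _ _ _ hx hy => by rw [mul_add, hx, hy, add_zero])
      (fun c x _ hx => by rw [smul_eq_mul, mul_left_comm, hx, mul_zero]) hy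
    rintro _ ⟨x, hx, rfl⟩
    rw [← map_mul, h₂, show Bialgebra.counitAlgHom R A'' x = 0 from hx, zero_smul, map_zero]
  have hf : ∀ x, f * x = Bialgebra.counitAlgHom R A x • f := fun x => by
    have hmem : g * x - Bialgebra.counitAlgHom R A x • g ∈ kerI R A A'' := by
      rw [← Ideal.Quotient.eq_zero_iff_mem, map_sub, sub_eq_zero, map_mul, h₁, epsKer_mk]
      exact (map_smul (Ideal.Quotient.mkₐ R (kerI R A A'')) _ _).symm
    have := hJ _ hmem
    rw [mul_sub, sub_eq_zero, mul_smul_comm, ← mul_assoc] at this
    exact this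
  refine ⟨sepElemOfIdem f ?_ hf⟩
  rw [map_mul, counit_algebraMap hε, h₂one, one_mul]
  exact h₁one

variable {e : A}

include hε in
/-- Over a local quotient group, the component of an extension by an étale group maps isomorphically. -/
theorem component_bijective [IsLocalRing A''] [Nontrivial R] [Module.Finite R A]
    [Module.FaithfullyFlat A'' A] (t' : SepElem (R := R) (A ⧸ kerI R A A''))
    (he : IsIdempotentElem e) (heε : Bialgebra.counitAlgHom R A e = 1) [IsLocalRing (A ⧸ cI e)] :
    Function.Bijective (algebraMap A'' (A ⧸ cI e)) := by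
  haveI : Module.Finite A'' A := Module.Finite.of_restrictScalars_finite R A'' A
  haveI : Module.Finite A'' (A ⧸ cI e) :=
    Module.Finite.of_surjective (Ideal.Quotient.mkₐ A'' (cI e)).toLinearMap Ideal.Quotient.mk_surjective
  obtain ⟨f₁, hf₁i, h₁one, h₁⟩ := exists_idem_of_sep (epsKer hε) t'
  obtain ⟨g, rfl⟩ := Ideal.Quotient.mk_surjective f₁
  let J₀ : Ideal (A ⧸ cI e) := (RingHom.ker (Bialgebra.counitAlgHom R A'')).map (algebraMap A'' (A ⧸ cI e))
  have hJ₀ : J₀ = (kerI R A A'').map (Ideal.Quotient.mk (cI e)) := by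
    rw [Ideal.map_map]
    rfl
  let ψ : (A ⧸ kerI R A A'') →+* (A ⧸ cI e) ⧸ J₀ :=
    Ideal.Quotient.lift (kerI R A A'') ((Ideal.Quotient.mk J₀).comp (Ideal.Quotient.mk (cI e))) fun a ha => by
      rw [RingHom.comp_apply, Ideal.Quotient.eq_zero_iff_mem, hJ₀]
      exact Ideal.mem_map_of_mem _ ha
  have hsurj : Function.Surjective (algebraMap A'' (A ⧸ cI e)) := by
    have hJne : J₀ ≤ RingHom.ker (eps0 (R := R) heε) := Ideal.map_le_iff_le_comap.mpr fun x hx => by
      rw [Ideal.mem_comap, RingHom.mem_ker, IsScalarTower.algebraMap_apply A'' A (A ⧸ cI e),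
        Ideal.Quotient.algebraMap_eq, eps0_mk]
      exact (counit_algebraMap hε x).trans hx
    have hu : IsUnit (Ideal.Quotient.mk (cI e) g) := by
      refine (IsLocalRing.notMem_maximalIdeal).mp fun hm => ?_
      have h1 : eps0 (R := R) heε (Ideal.Quotient.mk (cI e) g) = 1 := h₁one
      have hi : Ideal.Quotient.mk (cI e) g * Ideal.Quotient.mk (cI e) g - Ideal.Quotient.mk (cI e) g ∈ J₀ := by
        rw [hJ₀, ← map_mul, ← map_sub]
        refine Ideal.mem_map_of_mem _ ?_
        rw [← Ideal.Quotient.eq, map_mul]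
        exact hf₁i
      rcases IsLocalRing.isUnit_or_isUnit_one_sub_self (Ideal.Quotient.mk (cI e) g) with hu | hu
      · exact (IsLocalRing.mem_maximalIdeal _).mp hm hu
      · have := hu.map (eps0 (R := R) heε)
        rw [map_sub, map_one, h1, sub_self] at this
        exact not_isUnit_zero this
    have hmem : ∀ x : A ⧸ cI e, x - algebraMap R _ (eps0 (R := R) heε x) ∈ J₀ := by
      intro x
      obtain ⟨a, rfl⟩ := Ideal.Quotient.mk_surjective x
      have h := congrArg ψ (h₁ (Ideal.Quotient.mk _ a))
      rw [map_mul, Algebra.smul_def, map_mul] at h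
      have hu' : IsUnit (ψ (Ideal.Quotient.mk (kerI R A A'') g)) := hu.map (Ideal.Quotient.mk J₀)
      rw [mul_comm (ψ (algebraMap R _ _))] at h
      exact Ideal.Quotient.eq.mp (hu'.mul_left_cancel h)
    have htop : (⊤ : Submodule A'' (A ⧸ cI e)) ≤
        LinearMap.range (Algebra.linearMap A'' (A ⧸ cI e)) ⊔ IsLocalRing.maximalIdeal A'' • ⊤ := by
      intro x _
      rw [← sub_add_cancel x (algebraMap R _ (eps0 (R := R) heε x))]
      refine add_mem (Submodule.mem_sup_right ?_) (Submodule.mem_sup_left ?_)
      · rw [Ideal.smul_top_eq_map, Submodule.restrictScalars_mem]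
        exact Ideal.map_mono (IsLocalRing.le_maximalIdeal (RingHom.ker_ne_top _)) (hmem x)
      · exact ⟨algebraMap R A'' (eps0 (R := R) heε x),
          (IsScalarTower.algebraMap_apply R A'' (A ⧸ cI e) _).symm⟩
    have hall := Submodule.le_of_le_smul_of_le_jacobson_bot Module.Finite.fg_top
      (IsLocalRing.jacobson_eq_maximalIdeal ⊥ bot_ne_top).ge htop
    exact fun x => hall (Submodule.mem_top (x := x))
  haveI : Module.Flat A'' (A ⧸ cI e) := by
    let s : (A ⧸ cI e) →ₗ[A''] A := ((cI e).restrictScalars A'').liftQ (LinearMap.mulLeft A'' e) fun x hx => by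
      obtain ⟨a, rfl⟩ := Ideal.mem_span_singleton'.mp hx
      change e * (a * (1 - e)) = 0
      linear_combination (-a) * he.eq
    refine Module.Flat.of_retract s (Ideal.Quotient.mkₐ A'' (cI e)).toLinearMap ?_
    refine LinearMap.ext fun x => ?_
    obtain ⟨a, rfl⟩ := Ideal.Quotient.mk_surjective x
    change Ideal.Quotient.mk (cI e) (e * a) = Ideal.Quotient.mk (cI e) a
    rw [map_mul, mk_e, one_mul]
  haveI : IsLocalHom (algebraMap A'' (A ⧸ cI e)) := IsLocalHom.of_surjective _ hsurj
  haveI := Module.FaithfullyFlat.of_flat_of_isLocalHom (A := A'') (B := A ⧸ cI e)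
  exact ⟨FaithfulSMul.algebraMap_injective A'' (A ⧸ cI e), hsurj⟩

end

end Groth.Agent.ConnEt
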