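import Groth.Agent.ConnEt.EtalePart
import Groth.Prelude.Def_CartDual2
import Mathlib

/-! Invariant elements in the form `(1 ⊗ e) Δ x = x ⊗ e`, and bialgebra maps out of a quotient. -/

set_option autoImplicit false
universe u v w

open TensorProduct

noncomputable section

namespace Groth.Agent.ConnEt

section
variable {R : Type u} [CommRing R] {A : Type v} [CommRing A] [HopfAlgebra R A] {e : A}

theorem mem_cB_iff_mulLeft (he : IsIdempotentElem e) (x : A) :
    x ∈ cB R e ↔ LinearMap.lTensor A (LinearMap.mulLeft R e) (Coalgebra.comul (R := R) x) = x ⊗ₜ[R] e := by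
  let s : (A ⧸ cI e) →ₗ[R] A := ((cI e).restrictScalars R).liftQ (LinearMap.mulLeft R e) fun y hy => by
    obtain ⟨a, rfl⟩ := Ideal.mem_span_singleton'.mp hy
    change e * (a * (1 - e)) = 0
    linear_combination (-a) * he.eq
  have hs : ∀ z : A ⊗[R] A, s.lTensor A (Algebra.TensorProduct.map (AlgHom.id R A) (Ideal.Quotient.mkₐ R (cI e)) z) =
      LinearMap.lTensor A (LinearMap.mulLeft R e) z := by
    intro z
    induction z with
    | zero => simp
    | add p q hp hq => simp only [map_add, hp, hq]
    | tmul p q => rfl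
  have hm : ∀ z : A ⊗[R] A, Algebra.TensorProduct.map (AlgHom.id R A) (Ideal.Quotient.mkₐ R (cI e))
      (LinearMap.lTensor A (LinearMap.mulLeft R e) z) =
      Algebra.TensorProduct.map (AlgHom.id R A) (Ideal.Quotient.mkₐ R (cI e)) z := by
    intro z
    induction z with
    | zero => simp
    | add p q hp hq => simp only [map_add, hp, hq]
    | tmul p q => simp [mk_e]
  constructor
  · intro h
    rw [← hs]
    change s.lTensor A (coact R e x) = _
    rw [mem_cB.mp h, LinearMap.lTensor_tmul]
    change x ⊗ₜ[R] (e * 1) = _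
    rw [mul_one]
  · intro h
    have := congrArg (Algebra.TensorProduct.map (AlgHom.id R A) (Ideal.Quotient.mkₐ R (cI e))) h
    rw [hm] at this
    refine mem_cB.mpr (this.trans ?_)
    simp [mk_e]

end

section
variable {R : Type u} [CommRing R] {A : Type v} [CommRing A] [HopfAlgebra R A] (I : Ideal A) [I.IsHopfIdeal R]
  {B : Type w} [CommRing B] [Bialgebra R B]

/-- A bialgebra map killing a Hopf ideal factors through the quotient. -/
def liftBialg (f : A →ₐc[R] B) (hf : ∀ a ∈ I, f a = 0) : (A ⧸ I) →ₐc[R] B :=
  BialgHom.ofAlgHom (Ideal.Quotient.liftₐ I (f : A →ₐ[R] B) hf)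
    (Ideal.Quotient.algHom_ext R (AlgHom.ext fun a => CoalgHomClass.counit_comp_apply f a))
    (Ideal.Quotient.algHom_ext R (AlgHom.ext fun a => by
      have h := CoalgHomClass.map_comp_comul_apply f a
      refine Eq.trans ?_ h
      change Algebra.TensorProduct.map _ _ (Algebra.TensorProduct.map (Ideal.Quotient.mkₐ R I)
        (Ideal.Quotient.mkₐ R I) (Coalgebra.comul (R := R) a)) = TensorProduct.map _ _ (Coalgebra.comul (R := R) a)
      generalize Coalgebra.comul (R := R) a = z
      induction z with
      | zero => simp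
      | add p q hp hq => simp only [map_add, hp, hq]
      | tmul p q => rfl))

@[simp] theorem liftBialg_mk (f : A →ₐc[R] B) (hf : ∀ a ∈ I, f a = 0) (a : A) :
    liftBialg I f hf (Ideal.Quotient.mk I a) = f a := rfl

end

end Groth.Agent.ConnEt
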