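import Groth.Agent.ConnEt.Component
import Groth.Prelude.Def_SGA3
import Mathlib

/-! The connected component is normal. -/

set_option autoImplicit false
universe u v

open TensorProduct WithConv

noncomputable section

namespace Groth.Agent.ConnEt

variable {R : Type u} [CommRing R] {A : Type u} [CommRing A] [HopfAlgebra R A]

theorem conv3_eq {C : Type u} [CommRing C] [Algebra R C] (f g h : A →ₐ[R] C) :
    Dyn.conv3 R A f g h = (toConv f * toConv g * toConv h).ofConv := by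
  rw [AlgHom.convMul_def, AlgHom.convMul_def, ofConv_toConv, ofConv_toConv, ofConv_toConv, Dyn.conv3,
    ofConv_toConv, ofConv_toConv]
  congr 1
  rw [← AlgHom.comp_assoc, ← Algebra.TensorProduct.map_comp, AlgHom.comp_id]
  rfl

theorem comp_conv3 {C D : Type u} [CommRing C] [Algebra R C] [CommRing D] [Algebra R D] (φ : C →ₐ[R] D)
    (f g h : A →ₐ[R] C) :
    φ.comp (Dyn.conv3 R A f g h) = Dyn.conv3 R A (φ.comp f) (φ.comp g) (φ.comp h) := by
  rw [conv3_eq, conv3_eq, AlgHom.comp_convMul_distrib, AlgHom.comp_convMul_distrib]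

variable {e : A} [IsLocalRing (A ⧸ cI e)] [Nontrivial R] [Module.Finite R A]

theorem isNormal (he : IsIdempotentElem e) (hε : Bialgebra.counitAlgHom R A e = 1) :
    SGA3.IsNormalHopfIdeal R A (cI e) := by
  haveI : Module.Finite R (A ⧸ cI e) := Module.Finite.quotient R _
  intro T _ _ g h hh a ha
  obtain ⟨c, rfl⟩ := Ideal.mem_span_singleton'.mp ha
  let g₀ : A →ₐ[R] A ⊗[R] (A ⧸ cI e) := Algebra.TensorProduct.includeLeft
  let h₀ : A →ₐ[R] A ⊗[R] (A ⧸ cI e) :=
    (Algebra.TensorProduct.includeRight : (A ⧸ cI e) →ₐ[R] A ⊗[R] (A ⧸ cI e)).comp (Ideal.Quotient.mkₐ R (cI e))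
  let u := Dyn.conv3 R A g₀ h₀ (g₀.comp (HopfAlgebra.antipodeAlgHom R A)) e
  let q : A ⊗[R] (A ⧸ cI e) →ₐ[R] A := augR (eps0 hε)
  have hq : q u = 1 := by
    have h1 := AlgHom.congr_fun (comp_conv3 q g₀ h₀ (g₀.comp (HopfAlgebra.antipodeAlgHom R A))) e
    refine h1.trans ?_
    have e1 : q.comp g₀ = AlgHom.id R A := AlgHom.ext fun x => by simp [q, g₀]
    have e2 : toConv (q.comp h₀) = 1 := WithConv.ext (AlgHom.ext fun x => by
      rw [AlgHom.convOne_apply, Algebra.algebraMap_eq_smul_one]; simp [q, h₀])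
    rw [← AlgHom.comp_assoc q g₀, e1, AlgHom.id_comp, conv3_eq, e2, mul_one]
    have : toConv (AlgHom.id R A) * toConv (HopfAlgebra.antipodeAlgHom R A) = 1 :=
      mul_inv_cancel (toConv (AlgHom.id R A))
    rw [this]
    change algebraMap R A (Bialgebra.counitAlgHom R A e) = 1
    rw [hε, map_one]
  have hu : u = 1 := by
    refine idem_eq (map_ker_le_jac (T := A ⊗[R] (A ⧸ cI e)) (eps0 hε) Algebra.TensorProduct.includeRight)
      (he.map (Dyn.conv3 R A g₀ h₀ (g₀.comp (HopfAlgebra.antipodeAlgHom R A)))) IsIdempotentElem.one ?_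
    have := sub_mem_map_ker (eps0 hε) u
    rw [show augR (eps0 hε) u = 1 from hq] at this
    exact this
  let h' : (A ⧸ cI e) →ₐ[R] T := Ideal.Quotient.liftₐ (cI e) h hh
  let φ : A ⊗[R] (A ⧸ cI e) →ₐ[R] T := Algebra.TensorProduct.lift g h' fun _ _ => Commute.all _ _
  have eg : φ.comp g₀ = g := AlgHom.ext fun x => by simp [φ, g₀]
  have eh : φ.comp h₀ = h := AlgHom.ext fun x => by simp [φ, h₀, h']
  have h3 := AlgHom.congr_fun (comp_conv3 φ g₀ h₀ (g₀.comp (HopfAlgebra.antipodeAlgHom R A))) e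
  rw [AlgHom.comp_apply, show Dyn.conv3 R A g₀ h₀ (g₀.comp (HopfAlgebra.antipodeAlgHom R A)) e = u from rfl,
    hu, map_one, ← AlgHom.comp_assoc φ g₀, eg, eh] at h3
  rw [map_mul, map_sub, map_one, ← h3, sub_self, mul_zero]

end Groth.Agent.ConnEt
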