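import Groth.Agent.Hensel.Idempotent
import Mathlib

/-! Rigidity: algebra maps out of unramified algebras, and idempotents, congruent modulo an ideal inside
the Jacobson radical are equal; the augmentation ideal of a finite local algebra is such an ideal. -/

set_option autoImplicit false
universe u v w x

open TensorProduct

noncomputable section

namespace Groth.Agent.ConnEt

section
variable {R : Type u} [CommRing R]

/-- A separability element of `B`. -/
structure SepElem (B : Type v) [CommRing B] [Algebra R B] where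
  /-- the element -/
  elem : B ⊗[R] B
  rel : ∀ b : B, ((1 : B) ⊗ₜ[R] b - b ⊗ₜ[R] (1 : B)) * elem = 0
  mult : Algebra.TensorProduct.lmul' R elem = 1

/-- The separability element of an unramified algebra. -/
def sepElem (B : Type v) [CommRing B] [Algebra R B] [Algebra.EssFiniteType R B]
    [Algebra.FormallyUnramified R B] : SepElem (R := R) B :=
  ⟨_, (Algebra.FormallyUnramified.iff_exists_tensorProduct.mp ‹_›).choose_spec.1,
    (Algebra.FormallyUnramified.iff_exists_tensorProduct.mp ‹_›).choose_spec.2⟩

theorem formallyUnramified_of_sepElem {B : Type v} [CommRing B] [Algebra R B] [Algebra.EssFiniteType R B]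
    (t : SepElem (R := R) B) : Algebra.FormallyUnramified R B :=
  Algebra.FormallyUnramified.iff_exists_tensorProduct.mpr ⟨t.elem, t.rel, t.mult⟩

variable {T : Type w} [CommRing T] [Algebra R T]

/-- Two algebra maps out of a separable algebra which agree modulo an ideal in the radical are equal. -/
theorem SepElem.algHom_eq {B : Type v} [CommRing B] [Algebra R B] (t : SepElem (R := R) B) {K : Ideal T}
    (hK : K ≤ Ideal.jacobson ⊥) (f g : B →ₐ[R] T) (h : ∀ b, f b - g b ∈ K) : f = g := by
  let l : B ⊗[R] B →ₐ[R] T := Algebra.TensorProduct.lift f g fun _ _ => Commute.all _ _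
  have hcomp : (Ideal.Quotient.mkₐ R K).comp l =
      ((Ideal.Quotient.mkₐ R K).comp f).comp (Algebra.TensorProduct.lmul' R) := by
    refine Algebra.TensorProduct.ext (AlgHom.ext fun b => by simp [l]) (AlgHom.ext fun b => ?_)
    have := (Ideal.Quotient.eq.mpr (h b)).symm
    simpa [l] using this
  have hu : IsUnit (l t.elem) := by
    have h1 := AlgHom.congr_fun hcomp t.elem
    simp only [AlgHom.comp_apply, t.mult, map_one] at h1
    have h2 : l t.elem - 1 ∈ K := Ideal.Quotient.eq.mp (h1.trans (map_one _).symm)
    have := Hensel.isUnit_add_jacobson isUnit_one (hK h2)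
    rwa [add_sub_cancel] at this
  refine AlgHom.ext fun b => ?_
  have h0 := congrArg l (t.rel b)
  rw [map_mul, map_sub, map_zero] at h0
  have h3 := (IsUnit.mul_left_eq_zero hu).mp h0
  simp only [l, Algebra.TensorProduct.lift_tmul, map_one, one_mul, mul_one] at h3
  exact (sub_eq_zero.mp h3).symm

theorem idem_eq {K : Ideal T} (hK : K ≤ Ideal.jacobson ⊥) {e f : T} (he : IsIdempotentElem e)
    (hf : IsIdempotentElem f) (h : e - f ∈ K) : e = f :=
  Hensel.idempotent_eq_of_sub_mem_jacobson he hf (hK h)

theorem eq_one_of_idem {D : Type v} [CommRing D] [IsLocalRing D] {e : D} (he : IsIdempotentElem e)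
    (ε : D →+* R) (hε : ε e = 1) [Nontrivial R] : e = 1 := by
  rcases IsLocalRing.isUnit_or_isUnit_one_sub_self e with h | h
  · exact (IsIdempotentElem.iff_eq_one_of_isUnit h).mp he
  · exfalso
    refine not_isUnit_zero (M₀ := R) ?_
    have := h.map ε
    rwa [map_sub, map_one, hε, sub_self] at this

variable {A₀ : Type x} [CommRing A₀] [Algebra R A₀] [IsLocalRing A₀] [Nontrivial R]

/-- The image of the augmentation ideal of a local algebra in a finite algebra lies in the radical. -/
theorem map_ker_le_jac [Module.Finite R T] (ε : A₀ →ₐ[R] R) (j : A₀ →ₐ[R] T) :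
    (RingHom.ker ε).map j ≤ Ideal.jacobson ⊥ := by
  letI := j.toRingHom.toAlgebra
  haveI : IsScalarTower R A₀ T := IsScalarTower.of_algebraMap_eq fun r => (j.commutes r).symm
  haveI : Module.Finite A₀ T := Module.Finite.of_restrictScalars_finite R A₀ T
  exact Hensel.map_le_jacobson_of_isIntegral (A := A₀) (B := T) (I := RingHom.ker ε)
    ((IsLocalRing.le_maximalIdeal (RingHom.ker_ne_top ε)).trans
      (IsLocalRing.jacobson_eq_maximalIdeal ⊥ bot_ne_top).ge)

end

section
variable {R : Type u} [CommRing R] {X : Type v} [CommRing X] [Algebra R X] {Y : Type w} [CommRing Y] [Algebra R Y]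
  {T : Type x} [CommRing T] [Algebra R T]

/-- Congruences of algebra maps on a tensor product can be checked on the factors. -/
theorem congr_tensor {K : Ideal T} (F G : X ⊗[R] Y →ₐ[R] T) (h1 : ∀ a, F (a ⊗ₜ[R] (1 : Y)) - G (a ⊗ₜ[R] (1 : Y)) ∈ K)
    (h2 : ∀ b, F ((1 : X) ⊗ₜ[R] b) - G ((1 : X) ⊗ₜ[R] b) ∈ K) (z : X ⊗[R] Y) : F z - G z ∈ K :=
  Ideal.Quotient.eq.mp (AlgHom.congr_fun
    (Algebra.TensorProduct.ext (f := (Ideal.Quotient.mkₐ R K).comp F) (g := (Ideal.Quotient.mkₐ R K).comp G)
      (AlgHom.ext fun a => Ideal.Quotient.eq.mpr (h1 a)) (AlgHom.ext fun b => Ideal.Quotient.eq.mpr (h2 b))) z)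

/-- `id ⊗ ε`. -/
def augR (ε : Y →ₐ[R] R) : X ⊗[R] Y →ₐ[R] X :=
  (Algebra.TensorProduct.rid R R X).toAlgHom.comp (Algebra.TensorProduct.map (AlgHom.id R X) ε)

@[simp] theorem augR_tmul (ε : Y →ₐ[R] R) (x : X) (y : Y) : augR ε (x ⊗ₜ[R] y) = ε y • x := by
  simp [augR]

theorem sub_mem_map_ker (ε : Y →ₐ[R] R) (z : X ⊗[R] Y) :
    z - augR ε z ⊗ₜ[R] (1 : Y) ∈
      (RingHom.ker ε).map (Algebra.TensorProduct.includeRight : Y →ₐ[R] X ⊗[R] Y) := by
  induction z with
  | zero => simp
  | add a b ha hb =>
    rw [map_add, TensorProduct.add_tmul, add_sub_add_comm]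
    exact Ideal.add_mem _ ha hb
  | tmul a b =>
    have hb : b - ε b • (1 : Y) ∈ RingHom.ker ε := by simp [RingHom.mem_ker, map_smul]
    have := Ideal.mul_mem_left _ (a ⊗ₜ[R] (1 : Y))
      (Ideal.mem_map_of_mem (Algebra.TensorProduct.includeRight : Y →ₐ[R] X ⊗[R] Y) hb)
    simpa [TensorProduct.tmul_sub, TensorProduct.tmul_smul, TensorProduct.smul_tmul', mul_sub,
      Algebra.TensorProduct.tmul_mul_tmul] using this

end

/-- Flatness of the bottom ring map descends along a faithfully flat extension. -/
theorem flat_of_faithfullyFlat (R : Type u) [CommRing R] (B : Type v) [CommRing B] [Algebra R B]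
    (A : Type w) [CommRing A] [Algebra R A] [Algebra B A] [IsScalarTower R B A] [Module.Flat R A]
    [Module.FaithfullyFlat B A] : Module.Flat R B := by
  rw [Module.Flat.iff_lTensor_preserves_injective_linearMap]
  intro M N _ _ _ _ i hi
  change Function.Injective (TensorProduct.AlgebraTensorModule.lTensor B B i)
  rw [← Module.FaithfullyFlat.lTensor_injective_iff_injective B A]
  intro x y hxy
  apply (TensorProduct.AlgebraTensorModule.cancelBaseChange R B B A M).injective
  apply Module.Flat.lTensor_preserves_injective_linearMap (M := A) i hi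
  have e : (TensorProduct.AlgebraTensorModule.cancelBaseChange R B B A N).toLinearMap ∘ₗ
      (TensorProduct.AlgebraTensorModule.lTensor B B i).lTensor A =
      (TensorProduct.AlgebraTensorModule.lTensor B A i) ∘ₗ
        (TensorProduct.AlgebraTensorModule.cancelBaseChange R B B A M).toLinearMap :=
    TensorProduct.ext (LinearMap.ext fun c => TensorProduct.AlgebraTensorModule.ext fun b m => by simp)
  exact ((LinearMap.congr_fun e x).symm.trans
    (congrArg (TensorProduct.AlgebraTensorModule.cancelBaseChange R B B A N) hxy)).trans (LinearMap.congr_fun e y)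

end Groth.Agent.ConnEt
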